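import Groth.Agent.TameLib.OrdFrac
import Mathlib.RingTheory.OrderOfVanishing.Noetherian

/-! The order function of a discrete valuation ring. -/

set_option autoImplicit false
universe u

namespace LocSymLib

variable {R K : Type u} [CommRing R] [IsDomain R] [IsDiscreteValuationRing R] [Field K] [Algebra R K]
  [IsFractionRing R K]

local notation "ord" => CycAlg.ordFrac R K

theorem krullDimLE : Ring.KrullDimLE 1 R := inferInstance

theorem ord_irreducible {π : R} (hπ : Irreducible π) : ord (algebraMap R K π) = 1 := by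
  rw [TameLib.ordFrac_eq, Ring.ordFrac_irreducible hπ]
  rfl

theorem ord_zpow {π : R} (hπ : Irreducible π) (z : ℤ) : ord (algebraMap R K π ^ z) = z := by
  have h0 : algebraMap R K π ≠ 0 := (map_ne_zero_iff _ (IsFractionRing.injective R K)).2 hπ.ne_zero
  cases z with
  | ofNat n => rw [Int.ofNat_eq_natCast, zpow_natCast, TameLib.ordFrac_pow h0, ord_irreducible hπ, mul_one]
  | negSucc n =>
    rw [zpow_negSucc, TameLib.ordFrac_inv (pow_ne_zero _ h0), TameLib.ordFrac_pow h0, ord_irreducible hπ, mul_one]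
    rfl

theorem ord_of_isUnit {u : R} (hu : IsUnit u) : ord (algebraMap R K u) = 0 := by
  rw [TameLib.ordFrac_algebraMap hu.ne_zero, Ring.ord_of_isUnit hu]
  rfl

/-- A nonzero element is a unit times a power of the uniformiser. -/
theorem exists_unit {π : R} (hπ : Irreducible π) {g : K} (hg : g ≠ 0) :
    ∃ v : Rˣ, g = algebraMap R K v * algebraMap R K π ^ (ord g) := by
  have h0 : algebraMap R K π ≠ 0 := (map_ne_zero_iff _ (IsFractionRing.injective R K)).2 hπ.ne_zero
  obtain ⟨a, b, hb, rfl⟩ := IsFractionRing.div_surjective (A := R) g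
  have ha : a ≠ 0 := fun h => hg (by rw [h, map_zero, zero_div])
  obtain ⟨i, v, rfl⟩ := IsDiscreteValuationRing.eq_unit_mul_pow_irreducible ha hπ
  obtain ⟨j, w, rfl⟩ := IsDiscreteValuationRing.eq_unit_mul_pow_irreducible (nonZeroDivisors.ne_zero hb) hπ
  have e : algebraMap R K (v * π ^ i) / algebraMap R K (w * π ^ j) =
      algebraMap R K (v * w⁻¹ : Rˣ) * algebraMap R K π ^ ((i : ℤ) - j) := by
    have hw : algebraMap R K (w : R) ≠ 0 := (w.isUnit.map _).ne_zero
    rw [zpow_sub₀ h0, zpow_natCast, zpow_natCast, Units.val_mul, map_mul, map_mul, map_mul, map_pow, map_pow,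
      map_units_inv]
    field_simp
  refine ⟨v * w⁻¹, ?_⟩
  rw [e, TameLib.ordFrac_mul ((v * w⁻¹ : Rˣ).isUnit.map _).ne_zero (zpow_ne_zero _ h0), ord_zpow hπ,
    ord_of_isUnit (v * w⁻¹ : Rˣ).isUnit, zero_add]

/-- `g` is zero or has order at least `n`. -/
def Le (R : Type u) {K : Type u} [CommRing R] [Field K] [Algebra R K] (n : ℤ) (g : K) : Prop :=
  g = 0 ∨ n ≤ CycAlg.ordFrac R K g

theorem le_iff {π : R} (hπ : Irreducible π) {n : ℤ} {g : K} :
    Le R n g ↔ ∃ r : R, g = algebraMap R K r * algebraMap R K π ^ n := by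
  have h0 : algebraMap R K π ≠ 0 := (map_ne_zero_iff _ (IsFractionRing.injective R K)).2 hπ.ne_zero
  constructor
  · intro h
    by_cases hg : g = 0
    · exact ⟨0, by rw [hg, map_zero, zero_mul]⟩
    obtain ⟨v, hv⟩ := exists_unit hπ hg
    obtain ⟨d, hd⟩ := Int.le.dest (h.resolve_left hg)
    refine ⟨v * π ^ d, ?_⟩
    conv_lhs => rw [hv, ← hd, add_comm, zpow_add₀ h0, zpow_natCast]
    rw [map_mul, map_pow, mul_assoc]
  · rintro ⟨r, rfl⟩
    by_cases hr : r = 0
    · exact Or.inl (by rw [hr, map_zero, zero_mul])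
    refine Or.inr ?_
    rw [TameLib.ordFrac_mul ((map_ne_zero_iff _ (IsFractionRing.injective R K)).2 hr) (zpow_ne_zero _ h0),
      ord_zpow hπ, TameLib.ordFrac_algebraMap hr]
    omega

theorem Le.add {n : ℤ} {a b : K} (ha : Le R n a) (hb : Le R n b) : Le R n (a + b) := by
  obtain ⟨π, hπ⟩ := IsDiscreteValuationRing.exists_irreducible R
  obtain ⟨r, rfl⟩ := (le_iff hπ).1 ha
  obtain ⟨s, rfl⟩ := (le_iff hπ).1 hb
  exact (le_iff hπ).2 ⟨r + s, by rw [map_add, add_mul]⟩

theorem Le.neg {n : ℤ} {a : K} (ha : Le R n a) : Le R n (-a) := by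
  obtain ⟨π, hπ⟩ := IsDiscreteValuationRing.exists_irreducible R
  obtain ⟨r, rfl⟩ := (le_iff hπ).1 ha
  exact (le_iff hπ).2 ⟨-r, by rw [map_neg, neg_mul]⟩

theorem Le.sub {n : ℤ} {a b : K} (ha : Le R n a) (hb : Le R n b) : Le R n (a - b) := by
  rw [sub_eq_add_neg]; exact ha.add hb.neg

theorem Le.mono {m n : ℤ} {a : K} (h : m ≤ n) (ha : Le R n a) : Le R m a :=
  ha.imp id fun h' => h.trans h'

theorem Le.mul {m n : ℤ} {a b : K} (ha : Le R m a) (hb : Le R n b) : Le R (m + n) (a * b) := by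
  by_cases h : a * b = 0
  · exact Or.inl h
  obtain ⟨ha0, hb0⟩ := mul_ne_zero_iff.1 h
  refine Or.inr ?_
  rw [TameLib.ordFrac_mul ha0 hb0]
  have := ha.resolve_left ha0
  have := hb.resolve_left hb0
  omega

theorem le_self (g : K) : Le R (ord g) g := Or.inr le_rfl

theorem le_algebraMap (r : R) : Le R 0 (algebraMap R K r) := by
  obtain ⟨π, hπ⟩ := IsDiscreteValuationRing.exists_irreducible R
  exact (le_iff hπ).2 ⟨r, by rw [zpow_zero, mul_one]⟩

/-- The maximal ideal to a power has large order. -/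
theorem le_of_mem_pow {n : ℕ} {r : R} (hr : r ∈ IsLocalRing.maximalIdeal R ^ n) : Le R (n : ℤ) (algebraMap R K r) := by
  obtain ⟨π, hπ⟩ := IsDiscreteValuationRing.exists_irreducible R
  rw [hπ.maximalIdeal_eq, Ideal.span_singleton_pow, Ideal.mem_span_singleton] at hr
  obtain ⟨s, rfl⟩ := hr
  exact (le_iff hπ).2 ⟨s, by rw [map_mul, map_pow, mul_comm, zpow_natCast]⟩

/-- `1 + t` is a unit for `t` of positive order. -/
theorem one_add {t : K} (ht : Le R 1 t) : 1 + t ≠ 0 ∧ ord (1 + t) = 0 := by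
  obtain ⟨π, hπ⟩ := IsDiscreteValuationRing.exists_irreducible R
  obtain ⟨r, rfl⟩ := (le_iff hπ).1 ht
  have hu : IsUnit (1 + r * π) := by
    by_contra h
    have h1 : 1 + r * π ∈ IsLocalRing.maximalIdeal R := h
    have h2 : r * π ∈ IsLocalRing.maximalIdeal R :=
      Ideal.mul_mem_left _ _ (hπ.maximalIdeal_eq ▸ Ideal.mem_span_singleton_self π)
    have := sub_mem h1 h2
    rw [add_sub_cancel_right] at this
    exact (Ideal.ne_top_iff_one _).1 (IsLocalRing.maximalIdeal.isMaximal R).ne_top this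
  rw [zpow_one, ← map_mul, ← map_one (algebraMap R K), ← map_add]
  exact ⟨(hu.map _).ne_zero, ord_of_isUnit hu⟩

/-- An element close to `g` has the order of `g`. -/
theorem ord_eq_of_le {g h : K} (hg : g ≠ 0) (hd : Le R (ord g + 1) (h - g)) : h ≠ 0 ∧ ord h = ord g := by
  have ht : Le R 1 ((h - g) * g⁻¹) := by
    have := hd.mul (le_self (R := R) g⁻¹)
    rwa [TameLib.ordFrac_inv hg, show ord g + 1 + -ord g = 1 by omega] at this
  obtain ⟨h1, h2⟩ := one_add ht
  have e : h = g * (1 + (h - g) * g⁻¹) := by field_simp; ring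
  refine ⟨fun h0 => ?_, ?_⟩
  · rw [h0] at e
    exact mul_ne_zero hg h1 (by simpa [h0] using e.symm)
  · rw [e, TameLib.ordFrac_mul hg h1, h2, add_zero]

end LocSymLib
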