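import Groth.Prelude.Def_W4bk6serrecg25LocSym
import Groth.Agent.LocSymLib.Dvr
import Groth.Agent.HurwitzLib.SmoothCurve
import Groth.Agent.CycPushLib.Curve
import Groth.Agent.SerreVanLib.CurveAmple
import Groth.Agent.CurveAmpLib.FiniteSet
import Mathlib.AlgebraicGeometry.AlgClosed.Basic

/-! Rational points, orders and approximation on a smooth proper curve. -/

set_option autoImplicit false
set_option linter.style.haveILetI false
universe v u

open CategoryTheory AlgebraicGeometry LocSym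

noncomputable section

namespace LocSymLib

variable {k : Type u} [Field k] [IsAlgClosed k] {X : Scheme.{u}} [IsIntegral X]
  {c : X ⟶ Spec (CommRingCat.of k)} [IsProper c] [Smooth c] (hdim : topologicalKrullDim X = 1)

omit [IsIntegral X] [Smooth c] in
theorem isClosed_pt (x : Pt c) : IsClosed ({x.pt} : Set X) := by
  haveI := isClosedImmersion_of_comp_eq_id _ _ x.2
  have := x.1.isClosedEmbedding.isClosed_range
  rwa [Set.range_eq_singleton] at this
  exact fun a ↦ congr(x.1 $(Subsingleton.elim _ _))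

omit [IsIntegral X] [Smooth c] in
theorem pt_injective : Function.Injective (Pt.pt (c := c)) := fun a b h =>
  Subtype.ext (ext_of_apply_closedPoint_eq c a.2 b.2 h)

omit [IsIntegral X] [Smooth c] in
theorem exists_pt {y : X} (hy : IsClosed ({y} : Set X)) : ∃ x : Pt c, x.pt = y :=
  ⟨⟨pointOfClosedPoint c y hy, pointOfClosedPoint_comp c y hy⟩, pointOfClosedPoint_apply c y hy _⟩

omit [Smooth c] [IsAlgClosed k] in
theorem isNoetherian_curve (c : X ⟶ Spec (CommRingCat.of k)) [IsProper c] : IsNoetherian X := by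
  letI : X.Over (Spec (CommRingCat.of k)) := ⟨c⟩
  haveI : IsProper (X ↘ Spec (CommRingCat.of k)) := ‹IsProper c›
  exact CurvLib.isNoetherian k

include hdim in
omit [IsAlgClosed k] in
theorem dvr (x : Pt c) : IsDiscreteValuationRing (X.presheaf.stalk x.pt) := by
  letI : X.Over (Spec (CommRingCat.of k)) := ⟨c⟩
  haveI : Smooth (X ↘ Spec (CommRingCat.of k)) := ‹Smooth c›
  refine HurwitzLib.dvr_stalk_closed (k := k) hdim ?_
  haveI := isClosedImmersion_of_comp_eq_id _ _ x.2
  have := x.1.isClosedEmbedding.isClosed_range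
  rwa [Set.range_eq_singleton] at this
  exact fun a ↦ congr(x.1 $(Subsingleton.elim _ _))

omit [Smooth c] [IsProper c] [IsAlgClosed k] in
theorem constFun_eq {x : Pt c} (a : k) :
    ∃ r : X.presheaf.stalk x.pt, algebraMap _ X.functionField r = constFun c a ∧ (a ≠ 0 → IsUnit r) := by
  haveI : Nonempty (⊤ : X.Opens) := ⟨⟨x.pt, trivial⟩⟩
  let φ : k →+* Γ(X, ⊤) := c.appTop.hom.comp (Scheme.ΓSpecIso (CommRingCat.of k)).inv.hom
  exact ⟨X.presheaf.germ ⊤ x.pt trivial (φ a), CycPushLib.algebraMap_germ _ _,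
    fun ha => ((isUnit_iff_ne_zero.2 ha).map φ).map _⟩

include hdim in
omit [IsAlgClosed k] in
theorem ord_const {a : k} (ha : a ≠ 0) (x : Pt c) : x.ord (constFun c a) = 0 := by
  haveI := dvr hdim x
  obtain ⟨r, hr, hu⟩ := constFun_eq (x := x) a
  rw [← hr]
  exact ord_of_isUnit (hu ha)

include hdim in
omit [Smooth c] in
/-- A nonzero function has only finitely many zeros and poles. -/
theorem finite_ord_ne {g : X.functionField} (hg : g ≠ 0) : {x : Pt c | x.ord g ≠ 0}.Finite := by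
  letI : X.Over (Spec (CommRingCat.of k)) := ⟨c⟩
  haveI : IsProper (X ↘ Spec (CommRingCat.of k)) := ‹IsProper c›
  obtain ⟨U, hU, r, hne, hr, hru⟩ := exists_isUnit_germ_eq X g hg
  haveI := hne
  have hUne : ((U : Set X))ᶜ ≠ Set.univ := fun h => by
    obtain ⟨⟨y, hy⟩⟩ := hne
    exact (h ▸ Set.mem_univ y : y ∈ (U : Set X)ᶜ) hy
  have hfin := (SerreVanLib.proper_closed_finite k (X := X) hdim U.isOpen.isClosed_compl hUne).1
  refine (hfin.preimage pt_injective.injOn).subset fun x hx hxU => hx ?_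
  haveI := CurveAmpLib.krullDimLE_stalk hdim.le x.pt
  haveI := CurvLib.isNoetherian k (X := X)
  show CycAlg.ordFrac _ _ g = 0
  rw [← hr, ← CycPushLib.algebraMap_germ hxU, TameLib.ordFrac_algebraMap ((hru.map _).ne_zero),
    Ring.ord_of_isUnit (hru.map _)]
  rfl

include hdim in
/-- Approximation at finitely many points. -/
theorem exists_approx (s : Finset (Pt c)) (a : Pt c → X.functionField) (N : Pt c → ℤ) :
    ∃ h : X.functionField, ∀ x ∈ s, Le (X.presheaf.stalk x.pt) (N x) (h - a x) := by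
  classical
  haveI := isNoetherian_curve c
  haveI : X.IsSeparated := ⟨by
    rw [← Limits.terminal.comp_from c]
    infer_instance⟩
  obtain ⟨U, hU, hsU⟩ := CurveAmpLib.exists_affine_of_finite hdim.le _ ((s.finite_toSet).image Pt.pt)
  rcases s.eq_empty_or_nonempty with rfl | ⟨x₀, hx₀⟩
  · exact ⟨0, by simp⟩
  haveI : Nonempty U := ⟨⟨x₀.pt, hsU ⟨x₀, hx₀, rfl⟩⟩⟩
  haveI : IsDomain Γ(X, U) := IsIntegral.component_integral U
  haveI := functionField_isFractionRing_of_isAffineOpen X U hU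
  -- a common denominator
  obtain ⟨q, hq⟩ := IsLocalization.exist_integer_multiples (nonZeroDivisors Γ(X, U)) s a
  choose b hb using fun x : s => hq x.1 x.2
  have hqne : algebraMap Γ(X, U) X.functionField q ≠ 0 :=
    (map_ne_zero_iff _ (IsFractionRing.injective _ _)).2 (nonZeroDivisors.coe_ne_zero q)
  let I : s → Ideal Γ(X, U) := fun x => (hU.primeIdealOf ⟨x.1.pt, hsU ⟨x.1, x.2, rfl⟩⟩).asIdeal
  have hmax : ∀ x, (I x).IsMaximal := fun x =>
    IsAffineOpen.primeIdealOf_isMaximal_of_isClosed hU _ (isClosed_pt x.1)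
  let M : s → ℕ := fun x => (N x.1 + x.1.ord (algebraMap Γ(X, U) X.functionField q)).toNat
  have hpair : Pairwise fun x y => IsCoprime (I x ^ M x) (I y ^ M y) := fun x y hxy => by
    refine (Ideal.isCoprime_iff_sup_eq.2 ((hmax x).coprime_of_ne (hmax y) fun h => hxy (Subtype.ext (pt_injective ?_)))).pow
    have e := congrArg hU.fromSpec (PrimeSpectrum.ext h)
    rwa [IsAffineOpen.fromSpec_primeIdealOf, IsAffineOpen.fromSpec_primeIdealOf] at e
  obtain ⟨h', hh'⟩ := Ideal.exists_forall_sub_mem_ideal hpair b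
  refine ⟨algebraMap _ _ h' / algebraMap _ _ (q : Γ(X, U)), fun x hx => ?_⟩
  haveI := dvr hdim x
  let hxU : x.pt ∈ U := hsU ⟨x, hx, rfl⟩
  letI := X.presheaf.algebra_section_stalk (⟨x.pt, hxU⟩ : U)
  haveI := hU.isLocalization_stalk ⟨x.pt, hxU⟩
  have hmem : X.presheaf.germ U x.pt hxU (h' - b ⟨x, hx⟩) ∈
      IsLocalRing.maximalIdeal (X.presheaf.stalk x.pt) ^ M ⟨x, hx⟩ := by
    rw [← IsLocalization.AtPrime.map_eq_maximalIdeal (I ⟨x, hx⟩) (X.presheaf.stalk x.pt), ← Ideal.map_pow]
    exact Ideal.mem_map_of_mem _ (hh' ⟨x, hx⟩)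
  have h1 := (le_of_mem_pow (K := X.functionField) hmem).mul
    (le_self (R := X.presheaf.stalk x.pt) (algebraMap Γ(X, U) X.functionField q)⁻¹)
  rw [CycPushLib.algebraMap_germ, TameLib.ordFrac_inv hqne] at h1
  have hb' : algebraMap Γ(X, U) X.functionField (b ⟨x, hx⟩) = algebraMap Γ(X, U) X.functionField q * a x :=
    (hb ⟨x, hx⟩).trans (Algebra.smul_def _ _)
  have e : algebraMap Γ(X, U) X.functionField h' / algebraMap Γ(X, U) X.functionField q - a x =
      X.germToFunctionField U (h' - b ⟨x, hx⟩) * (algebraMap Γ(X, U) X.functionField q)⁻¹ := by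
    rw [show (X.germToFunctionField U (h' - b ⟨x, hx⟩)) = algebraMap Γ(X, U) X.functionField (h' - b ⟨x, hx⟩) from rfl,
      map_sub, hb']
    field_simp
  rw [e]
  refine h1.mono ?_
  simp only [M, Pt.ord]
  omega

include hdim in
/-- A function without poles is a constant. -/
theorem exists_const {g : X.functionField} (hg : ∀ x : Pt c, 0 ≤ x.ord g) : ∃ a : k, g = constFun c a := by
  classical
  by_cases hg0 : g = 0
  · exact ⟨0, by rw [hg0, map_zero]⟩
  haveI := isNoetherian_curve c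
  haveI : Nonempty (⊤ : X.Opens) := ⟨⟨genericPoint X, trivial⟩⟩
  have key : ∀ x : Pt c, ∃ (V : X.Opens) (_ : x.pt ∈ V) (_ : Nonempty V) (s : Γ(X, V)), X.germToFunctionField V s = g := by
    intro x
    haveI := dvr hdim x
    obtain ⟨π, hπ⟩ := IsDiscreteValuationRing.exists_irreducible (X.presheaf.stalk x.pt)
    obtain ⟨r, hr⟩ := (le_iff hπ).1 (Or.inr (hg x) : Le _ 0 g)
    obtain ⟨V, hxV, s, rfl⟩ := TopCat.Presheaf.exists_germ_eq (F := X.presheaf) r
    haveI : Nonempty V := ⟨⟨x.pt, hxV⟩⟩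
    exact ⟨V, hxV, inferInstance, s, by rw [hr, zpow_zero, mul_one, CycPushLib.algebraMap_germ]⟩
  choose V hV hne s hs using key
  haveI : JacobsonSpace X := LocallyOfFiniteType.jacobsonSpace c
  have hcov : (⊤ : X.Opens) ≤ ⨆ x, V x := by
    intro y _
    by_contra hy
    obtain ⟨z, hzc, hz⟩ := nonempty_inter_closedPoints (X := X) (Z := ((⨆ x, V x : X.Opens) : Set X)ᶜ) ⟨y, hy⟩
      (TopologicalSpace.Opens.isOpen _).isClosed_compl.isLocallyClosed
    obtain ⟨x, rfl⟩ := exists_pt (c := c) hz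
    exact hzc (TopologicalSpace.Opens.mem_iSup.2 ⟨x, hV x⟩)
  have hcompat : TopCat.Presheaf.IsCompatible X.presheaf V s := fun i j => by
    haveI : Nonempty (V i ⊓ V j : X.Opens) := ⟨⟨genericPoint X,
      ⟨((genericPoint_spec X).mem_open_set_iff (V i).isOpen).2 ⟨(hne i).some.1, trivial, (hne i).some.2⟩,
       ((genericPoint_spec X).mem_open_set_iff (V j).isOpen).2 ⟨(hne j).some.1, trivial, (hne j).some.2⟩⟩⟩⟩
    refine Scheme.germToFunctionField_injective X (V i ⊓ V j) ?_
    have hi := hne i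
    have hj := hne j
    refine (X.presheaf.germ_res_apply _ _ _ (s i)).trans (Eq.trans ?_ (X.presheaf.germ_res_apply _ _ _ (s j)).symm)
    exact (hs i).trans (hs j).symm
  obtain ⟨σ, hσ, -⟩ := X.sheaf.existsUnique_gluing' V ⊤ (fun i => homOfLE le_top) hcov s hcompat
  let φ : k →+* Γ(X, ⊤) := c.appTop.hom.comp (Scheme.ΓSpecIso (CommRingCat.of k)).inv.hom
  have hφ : Function.Surjective φ := by
    have hfin : φ.Finite := (finite_appTop_of_universallyClosed k c).comp
      (RingHom.Finite.of_surjective _ fun t => ⟨_, Iso.hom_inv_id_apply (Scheme.ΓSpecIso (CommRingCat.of k)) t⟩)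
    exact (IsAlgClosed.ringHom_bijective_of_isIntegral φ hfin.to_isIntegral).2
  obtain ⟨a, ha⟩ := hφ σ
  refine ⟨a, ?_⟩
  have x₀ : Nonempty (Pt c) := by
    obtain ⟨z, -, hz⟩ := nonempty_inter_closedPoints (X := X) (Z := Set.univ) ⟨genericPoint X, trivial⟩
      isClosed_univ.isLocallyClosed
    exact ⟨(exists_pt (c := c) hz).choose⟩
  obtain ⟨x₀⟩ := x₀
  have hi := hne x₀
  rw [← hs x₀, ← hσ x₀]
  show _ = X.germToFunctionField ⊤ (φ a)
  rw [ha]
  exact X.presheaf.germ_res_apply _ _ _ σ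

end LocSymLib
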