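import Groth.Agent.LocSymLib.Curve

/-! Local symbols: congruences, existence and uniqueness. -/

set_option autoImplicit false
set_option linter.style.haveILetI false
universe v u

open CategoryTheory AlgebraicGeometry LocSym

noncomputable section

namespace LocSymLib

variable {k : Type u} [Field k] [IsAlgClosed k] {X : Scheme.{u}} [IsIntegral X]
  {c : X ⟶ Spec (CommRingCat.of k)} [IsProper c] [Smooth c] (hdim : topologicalKrullDim X = 1)
  {G : Type v} [CommGroup G] (f : Pt c → G)

/-- `h` and `g` agree modulo `n` at `x`. -/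
def Near (x : Pt c) (n : ℕ) (h g : X.functionField) : Prop :=
  Le (X.presheaf.stalk x.pt) (x.ord g + n) (h - g)

include hdim in
omit [IsAlgClosed k] in
/-- `ord` of a product. -/
theorem ord_mul (x : Pt c) {a b : X.functionField} (ha : a ≠ 0) (hb : b ≠ 0) :
    x.ord (a * b) = x.ord a + x.ord b := by
  haveI := dvr hdim x
  exact TameLib.ordFrac_mul ha hb

include hdim in
omit [IsAlgClosed k] in
theorem ord_inv (x : Pt c) {a : X.functionField} (ha : a ≠ 0) : x.ord a⁻¹ = -x.ord a := by
  haveI := dvr hdim x
  exact TameLib.ordFrac_inv ha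

include hdim in
omit [IsAlgClosed k] in
theorem ord_one (x : Pt c) : x.ord (1 : X.functionField) = 0 := by
  haveI := dvr hdim x
  exact TameLib.ordFrac_one

include hdim in
omit [IsAlgClosed k] in
theorem ord_neg (x : Pt c) (a : X.functionField) : x.ord (-a) = x.ord a := by
  haveI := dvr hdim x
  by_cases ha : a = 0
  · rw [ha, neg_zero]
  rw [show -a = (-1) * a from (neg_one_mul a).symm, ord_mul hdim x (neg_ne_zero.2 one_ne_zero) ha]
  show CycAlg.ordFrac _ _ (-1 : X.functionField) + _ = _
  rw [TameLib.ordFrac_neg_one, zero_add]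

include hdim in
omit [IsAlgClosed k] in
/-- The ratio of near functions is congruent to one. -/
theorem Near.cong {x : Pt c} {n : ℕ} {h g : X.functionField} (hg : g ≠ 0) (hn : Near x n h g) :
    h / g = 1 ∨ (n : ℤ) ≤ x.ord (1 - h / g) := by
  haveI := dvr hdim x
  have h1 := hn.mul (le_self (R := X.presheaf.stalk x.pt) g⁻¹)
  rw [TameLib.ordFrac_inv hg, show CycAlg.ordFrac (X.presheaf.stalk x.pt) X.functionField g = x.ord g from rfl,
    show x.ord g + n + -x.ord g = (n : ℤ) by omega] at h1
  have e : (h - g) * g⁻¹ = -(1 - h / g) := by field_simp; ring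
  rw [e] at h1
  rcases h1.neg with h2 | h2
  · exact Or.inl (by rw [neg_neg, sub_eq_zero] at h2; exact h2.symm)
  · rw [neg_neg] at h2; exact Or.inr h2

include hdim in
omit [IsAlgClosed k] in
theorem Near.ord_eq {x : Pt c} {n : ℕ} {h g : X.functionField} (hg : g ≠ 0) (hn1 : 1 ≤ n) (hn : Near x n h g) :
    h ≠ 0 ∧ x.ord h = x.ord g := by
  haveI := dvr hdim x
  refine ord_eq_of_le hg (hn.mono ?_)
  show x.ord g + 1 ≤ x.ord g + (n : ℤ)
  omega

omit [IsProper c] [Smooth c] [IsAlgClosed k] in
theorem cong_iff (x : Pt c) (m : Pt c →₀ ℕ) (g : X.functionField) :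
    Cong1At m x g ↔ Le (X.presheaf.stalk x.pt) (m x) (1 - g) := by
  rw [Cong1At, Le, sub_eq_zero]
  exact ⟨fun h => h.imp Eq.symm id, fun h => h.imp Eq.symm id⟩

include hdim in
omit [IsAlgClosed k] in
/-- Congruence of functions is multiplicative. -/
theorem cong_mul {x : Pt c} {m : Pt c →₀ ℕ} {a b : X.functionField} (ha : Cong1At m x a) (hb : Cong1At m x b) :
    Cong1At m x (a * b) := by
  haveI := dvr hdim x
  rw [cong_iff] at ha hb ⊢
  have h0 : Le (X.presheaf.stalk x.pt) 0 a := by
    have := ((le_algebraMap (K := X.functionField) (1 : X.presheaf.stalk x.pt))).sub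
      (ha.mono (Int.natCast_nonneg _))
    rwa [map_one, sub_sub_cancel] at this
  have e : 1 - a * b = (1 - a) + a * (1 - b) := by ring
  rw [e]
  refine ha.add ?_
  simpa using h0.mul hb

include hdim in
/-- Approximation of prescribed functions at the points of a finite set. -/
theorem exists_near (s : Finset (Pt c)) (g : Pt c → X.functionField) (hg : ∀ x ∈ s, g x ≠ 0) (n : Pt c → ℕ) :
    ∃ h : X.functionField, h ≠ 0 ∧ ∀ x ∈ s, Near x (n x + 1) h (g x) := by
  rcases s.eq_empty_or_nonempty with rfl | ⟨x₀, hx₀⟩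
  · exact ⟨1, one_ne_zero, by simp⟩
  obtain ⟨h, hh⟩ := exists_approx hdim s g (fun x => x.ord (g x) + (n x + 1 : ℕ))
  exact ⟨h, (Near.ord_eq hdim (hg x₀ hx₀) (Nat.le_add_left 1 _) (hh x₀ hx₀)).1, hh⟩

include hdim in
omit [IsAlgClosed k] in
theorem Near.weaken {x : Pt c} {n n' : ℕ} {h g : X.functionField} (hn' : n' ≤ n) (hn : Near x n h g) :
    Near x n' h g := by
  haveI := dvr hdim x
  exact hn.mono (by omega)

include hdim in
open Classical in
theorem mulSupport_finite (S : Finset (Pt c)) {g : X.functionField} (hg : g ≠ 0) :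
    (Function.mulSupport fun x : Pt c => if x ∈ S then 1 else f x ^ x.ord g).Finite := by
  refine (finite_ord_ne hdim hg).subset fun x hx h0 => hx ?_
  show (if x ∈ S then 1 else f x ^ x.ord g) = 1
  rw [h0, zpow_zero, ite_self]

include hdim in
theorem evalDiv_mul (m : Pt c →₀ ℕ) {a b : X.functionField} (ha : a ≠ 0) (hb : b ≠ 0) :
    evalDiv m f (a * b) = evalDiv m f a * evalDiv m f b := by
  classical
  have h1 := mulSupport_finite hdim f m.support ha
  have h2 := mulSupport_finite hdim f m.support hb
  rw [evalDiv, evalDiv, evalDiv, ← finprod_mul_distrib h1 h2]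
  refine finprod_congr fun x => ?_
  split_ifs with h
  · rw [one_mul]
  · rw [ord_mul hdim x ha hb, zpow_add]

include hdim in
omit [IsAlgClosed k] in
theorem evalDiv_one (m : Pt c →₀ ℕ) : evalDiv m f (1 : X.functionField) = 1 := by
  classical
  refine finprod_eq_one_of_forall_eq_one fun x => ?_
  rw [ord_one hdim x, zpow_zero, ite_self]

include hdim in
/-- Two symbols, for possibly different moduli, coincide. -/
theorem symbol_unique (m n : Pt c →₀ ℕ) (σ τ : Pt c → (X.functionField)ˣ →* G)
    (hσ : IsLocalSymbol f m σ) (hτ : IsLocalSymbol f n τ) : σ = τ := by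
  classical
  funext x₀
  ext g
  let S := insert x₀ (m.support ∪ n.support)
  obtain ⟨h, h0, hh⟩ := exists_near hdim S (fun x => if x = x₀ then (g : X.functionField) else 1)
    (fun x _ => by beta_reduce; split_ifs; exacts [g.ne_zero, one_ne_zero]) (fun x => m x + n x)
  let hu : (X.functionField)ˣ := Units.mk0 h h0
  have h₀ : Near x₀ (m x₀ + n x₀ + 1) h g := by simpa using hh x₀ (Finset.mem_insert_self _ _)
  have hone : ∀ x ∈ S, x ≠ x₀ → Near x (m x + n x + 1) h 1 := fun x hx hne => by simpa [hne] using hh x hx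
  -- the value at `x₀`
  have key : ∀ (p : Pt c →₀ ℕ) (ρ : Pt c → (X.functionField)ˣ →* G), IsLocalSymbol f p ρ →
      (∀ x, p x ≤ m x + n x) → ρ x₀ g = ρ x₀ hu := fun p ρ hρ hp => by
    by_cases hx : x₀ ∈ p.support
    · have hc : Cong1At p x₀ ((hu / g : (X.functionField)ˣ) : X.functionField) := by
        rw [Units.val_div_eq_div_val]
        exact Near.cong hdim g.ne_zero (Near.weaken hdim (le_trans (hp x₀) (Nat.le_succ _)) h₀)
      have := hρ.eq_one_of_cong x₀ hx _ hc
      rw [map_div, div_eq_one] at this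
      exact this.symm
    · rw [hρ.eq_pow_of_notMem x₀ hx, hρ.eq_pow_of_notMem x₀ hx]
      exact congrArg (f x₀ ^ ·) (Near.ord_eq hdim g.ne_zero (Nat.le_add_left 1 _) h₀).2.symm
  rw [key m σ hσ (fun x => Nat.le_add_right _ _), key n τ hτ (fun x => Nat.le_add_left _ _)]
  have hrest : ∀ x, x ≠ x₀ → σ x hu = τ x hu := fun x hne => by
    have hval : ∀ (p : Pt c →₀ ℕ) (ρ : Pt c → (X.functionField)ˣ →* G), IsLocalSymbol f p ρ →
        (∀ x, p x ≤ m x + n x) → ρ x hu = if x ∈ S then 1 else f x ^ x.ord h := fun p ρ hρ hp => by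
      by_cases hx : x ∈ p.support
      · have hxS : x ∈ S := by
          refine Finset.mem_insert_of_mem ?_
          have := Finsupp.mem_support_iff.1 hx
          have := hp x
          rw [Finset.mem_union, Finsupp.mem_support_iff, Finsupp.mem_support_iff]
          omega
        rw [if_pos hxS]
        refine hρ.eq_one_of_cong x hx hu ?_
        have := Near.cong hdim one_ne_zero (Near.weaken hdim (le_trans (hp x) (Nat.le_succ _)) (hone x hxS hne))
        rwa [div_one] at this
      · rw [hρ.eq_pow_of_notMem x hx]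
        split_ifs with hxS
        · show f x ^ x.ord h = 1
          rw [(Near.ord_eq hdim one_ne_zero (Nat.le_add_left 1 _) (hone x hxS hne)).2, ord_one hdim x, zpow_zero]
        · rfl
    rw [hval m σ hσ (fun x => Nat.le_add_right _ _), hval n τ hτ (fun x => Nat.le_add_left _ _)]
  have h1 := hσ.finprod_eq_one hu
  have h2 := hτ.finprod_eq_one hu
  let T : Finset (Pt c) := insert x₀ ((hσ.mulSupport_finite hu).toFinset ∪ (hτ.mulSupport_finite hu).toFinset)
  rw [finprod_eq_prod_of_mulSupport_subset (s := T) _ (fun x hx => by simp [T] at hx ⊢; tauto),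
    ← Finset.mul_prod_erase T _ (Finset.mem_insert_self _ _)] at h1 h2
  have e : ∏ x ∈ T.erase x₀, σ x hu = ∏ x ∈ T.erase x₀, τ x hu :=
    Finset.prod_congr rfl fun x hx => hrest x (Finset.ne_of_mem_erase hx)
  rw [e] at h1
  exact mul_right_cancel (h1.trans h2.symm)

include hdim in
/-- A local symbol gives a modulus. -/
theorem isModulus_of_symbol (m : Pt c →₀ ℕ) (σ : Pt c → (X.functionField)ˣ →* G) (hσ : IsLocalSymbol f m σ) :
    IsModulus f m := by
  classical
  intro g hg hc
  rw [evalDiv]
  refine (finprod_congr fun x => ?_).trans (hσ.finprod_eq_one (Units.mk0 g hg))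
  split_ifs with hx
  · exact (hσ.eq_one_of_cong x hx (Units.mk0 g hg) (hc x hx)).symm
  · exact (hσ.eq_pow_of_notMem x hx (Units.mk0 g hg)).symm

include hdim in
/-- A modulus gives a local symbol. -/
theorem exists_symbol (m : Pt c →₀ ℕ) (hm : IsModulus f m) :
    ∃ σ : Pt c → (X.functionField)ˣ →* G, IsLocalSymbol f m σ := by
  classical
  let Ok : Pt c → X.functionField → X.functionField → Prop := fun x g h =>
    h ≠ 0 ∧ Cong1At m x (h / g) ∧ ∀ y ∈ m.support, y ≠ x → Cong1At m y h
  have hex : ∀ (x : Pt c) (g : (X.functionField)ˣ), ∃ h, Ok x g h := fun x g => by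
    obtain ⟨h, h0, hh⟩ := exists_near hdim (insert x m.support) (fun y => if y = x then (g : X.functionField) else 1)
      (fun y _ => by beta_reduce; split_ifs; exacts [g.ne_zero, one_ne_zero]) (fun y => m y)
    refine ⟨h, h0, ?_, fun y hy hne => ?_⟩
    · have := hh x (Finset.mem_insert_self _ _)
      rw [if_pos rfl] at this
      exact Near.cong hdim g.ne_zero (Near.weaken hdim (Nat.le_succ _) this)
    · have := hh y (Finset.mem_insert_of_mem hy)
      rw [if_neg hne] at this
      have := Near.cong hdim one_ne_zero (Near.weaken hdim (Nat.le_succ _) this)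
      rwa [div_one] at this
  have hinv : ∀ {y : Pt c} {a : X.functionField}, a ≠ 0 → 1 ≤ m y → Cong1At m y a → Cong1At m y a⁻¹ := by
    intro y a ha hy hca
    haveI := dvr hdim y
    rw [cong_iff] at hca ⊢
    have h1 : a ≠ 0 ∧ y.ord a = y.ord (1 : X.functionField) := by
      refine Near.ord_eq hdim one_ne_zero hy (n := m y) ?_
      rw [Near, ord_one hdim y, zero_add, show a - 1 = -(1 - a) by ring]
      exact hca.neg
    have h2 := hca.neg.mul (le_self (R := X.presheaf.stalk y.pt) a⁻¹)
    rw [show CycAlg.ordFrac (X.presheaf.stalk y.pt) X.functionField a⁻¹ = y.ord a⁻¹ from rfl, ord_inv hdim y ha,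
      h1.2, ord_one hdim y, neg_zero, add_zero, show -(1 - a) * a⁻¹ = 1 - a⁻¹ by field_simp; ring] at h2
    exact h2
  have hwell : ∀ {a b : X.functionField}, a ≠ 0 → b ≠ 0 → (∀ y ∈ m.support, Cong1At m y (a / b)) →
      evalDiv m f a = evalDiv m f b := fun {a b} ha hb hc => by
    conv_lhs => rw [← div_mul_cancel₀ a hb]
    rw [evalDiv_mul hdim f m (div_ne_zero ha hb) hb, hm _ (div_ne_zero ha hb) hc, one_mul]
  have hpos : ∀ y ∈ m.support, 1 ≤ m y := fun y hy => Nat.one_le_iff_ne_zero.2 (Finsupp.mem_support_iff.1 hy)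
  -- independence of the choice
  have huniq : ∀ {x : Pt c} {g h h' : X.functionField}, x ∈ m.support → g ≠ 0 → Ok x g h → Ok x g h' →
      evalDiv m f h = evalDiv m f h' := fun {x g h h'} hx hg ⟨h0, hc, ho⟩ ⟨h0', hc', ho'⟩ => by
    refine hwell h0 h0' fun y hy => ?_
    by_cases hne : y = x
    · subst hne
      have := cong_mul hdim hc (hinv (div_ne_zero h0' hg) (hpos y hy) hc')
      rwa [show h / g * (h' / g)⁻¹ = h / h' by field_simp] at this
    · have := cong_mul hdim (ho y hy hne) (hinv h0' (hpos y hy) (ho' y hy hne))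
      rwa [← div_eq_mul_inv] at this
  choose H hH using hex
  let σ₀ : Pt c → (X.functionField)ˣ → G := fun x g =>
    if x ∈ m.support then (evalDiv m f (H x g))⁻¹ else f x ^ x.ord (g : X.functionField)
  have hmul : ∀ x g g', σ₀ x (g * g') = σ₀ x g * σ₀ x g' := fun x g g' => by
    simp only [σ₀]
    split_ifs with hx
    · obtain ⟨a0, ac, ao⟩ := hH x g
      obtain ⟨b0, bc, bo⟩ := hH x g'
      rw [huniq hx (g * g').ne_zero (hH x (g * g')) (h' := H x g * H x g')
        ⟨mul_ne_zero a0 b0, by rw [Units.val_mul, ← div_mul_div_comm]; exact cong_mul hdim ac bc,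
          fun y hy hne => cong_mul hdim (ao y hy hne) (bo y hy hne)⟩,
        evalDiv_mul hdim f m a0 b0, mul_inv]
    · rw [Units.val_mul, ord_mul hdim x g.ne_zero g'.ne_zero, zpow_add]
  refine ⟨fun x => MonoidHom.mk' (σ₀ x) (hmul x), fun x hx g hg => ?_, fun x hx g => if_neg hx, fun g => ?_,
    fun g => ?_⟩
  · show σ₀ x g = 1
    have hone : Ok x (g : X.functionField) 1 := ⟨one_ne_zero, by rw [one_div]; exact hinv g.ne_zero (hpos x hx) hg,
      fun y _ _ => Or.inl rfl⟩
    simp only [σ₀, if_pos hx]
    rw [huniq hx g.ne_zero (hH x g) hone, evalDiv_one hdim f m, inv_one]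
  · refine (m.support.finite_toSet.union (finite_ord_ne hdim g.ne_zero)).subset fun x hx => ?_
    by_contra hne
    simp only [Set.mem_union, Finset.mem_coe, Set.mem_setOf_eq, not_or, not_not] at hne
    refine hx ?_
    show σ₀ x g = 1
    simp only [σ₀, if_neg hne.1, hne.2, zpow_zero]
  · show ∏ᶠ x, σ₀ x g = 1
    have hsplit : ∀ x, σ₀ x g = (if x ∈ m.support then (evalDiv m f (H x g))⁻¹ else 1) *
        (if x ∈ m.support then 1 else f x ^ x.ord (g : X.functionField)) := fun x => by
      simp only [σ₀]; split_ifs <;> simp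
    have hfin : (Function.mulSupport fun x => if x ∈ m.support then (evalDiv m f (H x g))⁻¹ else 1).Finite :=
      m.support.finite_toSet.subset fun x hx => by
        by_contra h
        exact hx (if_neg h)
    rw [finprod_congr hsplit, finprod_mul_distrib hfin (mulSupport_finite hdim f m.support g.ne_zero)]
    rw [finprod_eq_prod_of_mulSupport_subset (s := m.support) _ (fun x hx => by
      by_contra h
      exact hx (if_neg h)),
      Finset.prod_congr rfl (fun x hx => if_pos hx)]
    have hP : ∀ s : Finset (Pt c), evalDiv m f (∏ x ∈ s, H x g) = ∏ x ∈ s, evalDiv m f (H x g) := fun s => by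
      induction s using Finset.induction_on with
      | empty => rw [Finset.prod_empty, Finset.prod_empty]; exact evalDiv_one hdim f m
      | insert a s ha ih =>
        rw [Finset.prod_insert ha, Finset.prod_insert ha, ← ih,
          evalDiv_mul hdim f m (hH a g).1 (Finset.prod_ne_zero_iff.2 fun i _ => (hH i g).1)]
    have hcg : evalDiv m f (∏ x ∈ m.support, H x g) = evalDiv m f (g : X.functionField) :=
      hwell (Finset.prod_ne_zero_iff.2 fun i _ => (hH i g).1) g.ne_zero fun y hy => by
        rw [← Finset.mul_prod_erase _ _ hy, mul_div_right_comm]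
        refine cong_mul hdim (hH y g).2.1 (Finset.prod_induction _ (Cong1At m y)
          (fun a b => cong_mul hdim) (Or.inl rfl) fun x hx =>
            (hH x g).2.2 y hy (Finset.ne_of_mem_erase hx).symm)
    rw [Finset.prod_inv_distrib, ← hP, hcg]
    exact inv_mul_cancel _

include hdim in
theorem evalDiv_eq_zeros_div_poles (m : Pt c →₀ ℕ) {g : X.functionField} (hg : g ≠ 0) :
    evalDiv m f g = evalZeros m f g / evalPoles m f g := by
  classical
  have hfin : ∀ φ : ℤ → ℕ, φ 0 = 0 →
      (Function.mulSupport fun x : Pt c => if x ∈ m.support then 1 else f x ^ φ (x.ord g)).Finite := fun φ hφ =>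
    (finite_ord_ne hdim hg).subset fun x hx h0 => hx (by
      show (if x ∈ m.support then 1 else f x ^ φ (x.ord g)) = 1
      rw [h0, hφ, pow_zero, ite_self])
  rw [evalDiv, evalZeros, evalPoles,
    ← finprod_div_distrib (hfin (fun z => (max z 0).toNat) rfl) (hfin (fun z => (max (-z) 0).toNat) rfl)]
  refine finprod_congr fun x => ?_
  split_ifs
  · rw [div_one]
  · rw [← zpow_natCast, ← zpow_natCast, div_eq_mul_inv, ← zpow_neg, ← zpow_add]
    congr 1
    omega

include hdim in
theorem modulus_iff (m : Pt c →₀ ℕ) :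
    IsModulus f m ↔
      ∀ g : X.functionField, g ≠ 0 → (∃ x : Pt c, x.ord g < 0) →
        (∀ x ∈ m.support, (m x : ℤ) ≤ x.ord g) →
          ∀ a : k, a ≠ 0 → evalZeros m f (g - constFun c a) = evalPoles m f g := by
  classical
  -- shifting by a constant does not change the poles
  have hpole : ∀ (g : X.functionField) (a : k), g ≠ 0 → g - constFun c a ≠ 0 → ∀ x : Pt c,
      max (-x.ord (g - constFun c a)) 0 = max (-x.ord g) 0 := fun g a hg hga x => by
    haveI := dvr hdim x
    obtain ⟨r, hr, -⟩ := constFun_eq (x := x) a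
    have hc : Le (X.presheaf.stalk x.pt) 0 (constFun c a) := hr ▸ le_algebraMap r
    have key : ∀ z : ℤ, z ≤ 0 → (z ≤ x.ord (g - constFun c a) ↔ z ≤ x.ord g) := fun z hz => by
      constructor
      · intro h
        have := Le.add (R := X.presheaf.stalk x.pt) (n := z) (a := g - constFun c a) (Or.inr h) (hc.mono hz)
        rw [sub_add_cancel] at this
        exact this.resolve_left hg
      · intro h
        exact (Le.sub (R := X.presheaf.stalk x.pt) (n := z) (a := g) (Or.inr h) (hc.mono hz)).resolve_left hga
    have h1 := key (min (x.ord g) 0) (min_le_right _ _)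
    have h2 := key (min (x.ord (g - constFun c a)) 0) (min_le_right _ _)
    omega
  have hconst : ∀ g : X.functionField, (∃ x : Pt c, x.ord g < 0) → ∀ a : k, g - constFun c a ≠ 0 := by
    rintro g ⟨x, hx⟩ a h
    rw [sub_eq_zero] at h
    rw [h] at hx
    by_cases ha : a = 0
    · rw [ha, map_zero] at hx
      haveI := dvr hdim x
      have : x.ord (0 : X.functionField) = 0 := by
        show CycAlg.ordFrac _ _ (0 : X.functionField) = 0
        rw [TameLib.ordFrac_eq, map_zero]
        rfl
      omega
    · rw [ord_const hdim ha x] at hx; omega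
  constructor
  · intro hm g hg hp hord a ha
    have hga := hconst g hp a
    have ha0 : constFun c (-a) ≠ 0 := by rw [map_ne_zero_iff _ (constFun c).injective]; exact neg_ne_zero.2 ha
    have e : constFun c (-a) = -constFun c a := map_neg _ _
    have hc : Cong1 m ((g - constFun c a) / constFun c (-a)) := fun x hx => Or.inr (by
      haveI := dvr hdim x
      have : 1 - (g - constFun c a) / constFun c (-a) = g * (constFun c a)⁻¹ := by
        have : constFun c a ≠ 0 := by rwa [e, neg_ne_zero] at ha0
        rw [e]; field_simp; ring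
      rw [this, ord_mul hdim x hg (inv_ne_zero ((map_ne_zero_iff _ (constFun c).injective).2 ha)),
        ord_inv hdim x ((map_ne_zero_iff _ (constFun c).injective).2 ha), ord_const hdim ha x, neg_zero, add_zero]
      exact hord x hx)
    have h1 := hm _ (div_ne_zero hga ha0) hc
    have h2 : evalDiv m f ((g - constFun c a) / constFun c (-a)) = evalDiv m f (g - constFun c a) := by
      refine finprod_congr fun x => ?_
      rw [div_eq_mul_inv, ord_mul hdim x hga (inv_ne_zero ha0), ord_inv hdim x ha0,
        ord_const hdim (neg_ne_zero.2 ha) x, neg_zero, add_zero]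
    rw [h2, evalDiv_eq_zeros_div_poles hdim f m hga, div_eq_one] at h1
    rw [h1]
    exact finprod_congr fun x => by rw [hpole g a hg hga x]
  · intro h g hg hc
    by_cases hg' : 1 - g = 0
    · rw [← sub_eq_zero.1 hg', evalDiv_one hdim f m]
    by_cases hp : ∃ x : Pt c, x.ord (1 - g) < 0
    · have hord : ∀ x ∈ m.support, (m x : ℤ) ≤ x.ord (1 - g) := fun x hx =>
        (hc x hx).resolve_left fun e => hg' (by rw [e, sub_self])
      have h1 := h (1 - g) hg' hp hord 1 one_ne_zero
      have e : 1 - g - constFun c 1 = -g := by rw [map_one]; ring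
      rw [e] at h1
      have h2 : evalPoles m f (1 - g) = evalPoles m f (-g) := by
        refine finprod_congr fun x => ?_
        have := hpole (1 - g) 1 hg' (by rw [e]; exact neg_ne_zero.2 hg) x
        rw [e] at this
        rw [this]
      rw [h2] at h1
      have h3 := evalDiv_eq_zeros_div_poles hdim f m (g := -g) (neg_ne_zero.2 hg)
      rw [h1, div_self'] at h3
      rw [← h3]
      exact finprod_congr fun x => by rw [ord_neg hdim x g]
    · push_neg at hp
      obtain ⟨a, ha⟩ := exists_const hdim hp
      refine finprod_eq_one_of_forall_eq_one fun x => ?_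
      have e : g = constFun c (1 - a) := by rw [map_sub, map_one, ← ha]; ring
      have h1a : (1 : k) - a ≠ 0 := fun h0 => hg (by rw [e, h0, map_zero])
      rw [e, ord_const hdim h1a x, zpow_zero, ite_self]

end LocSymLib
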